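import Groth.Prelude.Def_CGrpSh2
import Mathlib.CategoryTheory.Limits.Shapes.Terminal
import Mathlib.CategoryTheory.Preadditive.Injective.Basic
import Mathlib.CategoryTheory.Sites.LocallySurjective
import Mathlib.Algebra.BigOperators.Finsupp.Basic

/-!
# Torsors under an internal Hom of abelian sheaves

Let `M → I → Q` be left exact on sections with `I` injective as a presheaf and assume that every
morphism `F → Q` lifts to `I`.  Then a torsor under the internal Hom of `F` into `M` is trivial.
-/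

set_option autoImplicit false

universe u

open CategoryTheory CategoryTheory.Limits Opposite

noncomputable section

namespace Groth.Agent.HomShH1

variable {C : Type (u + 1)} [Category.{u} C] {J : GrothendieckTopology C}

/-- Restriction of sections. -/
abbrev res (F : Sheaf J AddCommGrpCat.{u + 1}) {W V : C} (v : W ⟶ V) :
    F.obj.obj (op V) →+ F.obj.obj (op W) := (F.obj.map v.op).hom

/-- The map on sections. -/
abbrev sMap {F G : Sheaf J AddCommGrpCat.{u + 1}} (φ : F ⟶ G) (W : C) :
    F.obj.obj (op W) →+ G.obj.obj (op W) := (φ.hom.app (op W)).hom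

theorem res_res (F : Sheaf J AddCommGrpCat.{u + 1}) {W V U : C} (v : W ⟶ V) (g : V ⟶ U)
    (x : F.obj.obj (op U)) : res F v (res F g x) = res F (v ≫ g) x := by
  show _ = (F.obj.map (g.op ≫ v.op)).hom x
  rw [F.obj.map_comp]; rfl

theorem res_id (F : Sheaf J AddCommGrpCat.{u + 1}) {W : C} (x : F.obj.obj (op W)) :
    res F (𝟙 W) x = x :=
  ConcreteCategory.congr_hom (F.obj.map_id (op W)) x

theorem sMap_res {F G : Sheaf J AddCommGrpCat.{u + 1}} (φ : F ⟶ G) {W V : C} (v : W ⟶ V)
    (x : F.obj.obj (op V)) : sMap φ W (res F v x) = res G v (sMap φ V x) :=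
  ConcreteCategory.congr_hom (φ.hom.naturality v.op) x

section Eval

variable {F G G' : Sheaf J AddCommGrpCat.{u + 1}}

/-- The value of a section of the internal Hom. -/
def evAt {T W : C} (φ : (HomSh.homSh J F G).obj.obj (op T)) (f : W ⟶ T) :
    F.obj.obj (op W) →+ G.obj.obj (op W) :=
  ((show F.over T ⟶ G.over T from φ).hom.app (op (Over.mk f))).hom

theorem evAt_congr {T W : C} (φ : (HomSh.homSh J F G).obj.obj (op T)) {f f' : W ⟶ T} (h : f = f')
    (x : F.obj.obj (op W)) : evAt φ f x = evAt φ f' x := by rw [h]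

theorem evAt_res {T T' W : C} (φ : (HomSh.homSh J F G).obj.obj (op T)) (g : T' ⟶ T) (f : W ⟶ T')
    (x : F.obj.obj (op W)) : evAt (res (HomSh.homSh J F G) g φ) f x = evAt φ (f ≫ g) x := rfl

theorem evAt_comp {T W W' : C} (φ : (HomSh.homSh J F G).obj.obj (op T)) (f : W ⟶ T) (v : W' ⟶ W)
    (x : F.obj.obj (op W)) : evAt φ (v ≫ f) (res F v x) = res G v (evAt φ f x) :=
  ConcreteCategory.congr_hom ((show F.over T ⟶ G.over T from φ).hom.naturality
    (Over.homMk v rfl : Over.mk (v ≫ f) ⟶ Over.mk f).op) x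

theorem evAt_add {T W : C} (φ ψ : (HomSh.homSh J F G).obj.obj (op T)) (f : W ⟶ T)
    (x : F.obj.obj (op W)) : evAt (φ + ψ) f x = evAt φ f x + evAt ψ f x := rfl

theorem evAt_zero {T W : C} (f : W ⟶ T) (x : F.obj.obj (op W)) :
    evAt (0 : (HomSh.homSh J F G).obj.obj (op T)) f x = 0 := rfl

theorem evAt_sub {T W : C} (φ ψ : (HomSh.homSh J F G).obj.obj (op T)) (f : W ⟶ T)
    (x : F.obj.obj (op W)) : evAt (φ - ψ) f x = evAt φ f x - evAt ψ f x := by
  rw [eq_sub_iff_add_eq, ← evAt_add, sub_add_cancel]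

theorem evAt_ext {T : C} {φ ψ : (HomSh.homSh J F G).obj.obj (op T)}
    (h : ∀ (W : C) (f : W ⟶ T) (x : F.obj.obj (op W)), evAt φ f x = evAt ψ f x) : φ = ψ :=
  Sheaf.hom_ext (NatTrans.ext (funext fun U => AddCommGrpCat.ext fun x =>
    h U.unop.left U.unop.hom x))

/-- A section of the internal Hom from its values. -/
def ofNatural {T : C} (Φ : ∀ (W : C), (W ⟶ T) → (F.obj.obj (op W) →+ G.obj.obj (op W)))
    (hΦ : ∀ {W W' : C} (f : W ⟶ T) (v : W' ⟶ W) (x : F.obj.obj (op W)),
      Φ W' (v ≫ f) (res F v x) = res G v (Φ W f x)) :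
    (HomSh.homSh J F G).obj.obj (op T) :=
  show F.over T ⟶ G.over T from
  ⟨{ app := fun U => AddCommGrpCat.ofHom (Φ U.unop.left U.unop.hom)
     naturality := fun U U' g => AddCommGrpCat.ext fun x =>
      (congrArg (fun f => Φ U'.unop.left f (res F g.unop.left x)) (Over.w g.unop).symm).trans
        (hΦ U.unop.hom g.unop.left x) }⟩

theorem evAt_ofNatural {T : C} (Φ : ∀ (W : C), (W ⟶ T) → (F.obj.obj (op W) →+ G.obj.obj (op W)))
    (hΦ : ∀ {W W' : C} (f : W ⟶ T) (v : W' ⟶ W) (x : F.obj.obj (op W)),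
      Φ W' (v ≫ f) (res F v x) = res G v (Φ W f x)) {W : C} (f : W ⟶ T) (x : F.obj.obj (op W)) :
    evAt (ofNatural Φ hΦ) f x = Φ W f x := rfl

/-- Post-composition on sections. -/
def post (β : G ⟶ G') {T : C} (φ : (HomSh.homSh J F G).obj.obj (op T)) :
    (HomSh.homSh J F G').obj.obj (op T) :=
  ofNatural (fun W f => (sMap β W).comp (evAt φ f)) fun f v x =>
    (congrArg (sMap β _) (evAt_comp φ f v x)).trans (sMap_res β v _)

theorem evAt_post (β : G ⟶ G') {T W : C} (φ : (HomSh.homSh J F G).obj.obj (op T)) (f : W ⟶ T)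
    (x : F.obj.obj (op W)) : evAt (post β φ) f x = sMap β W (evAt φ f x) := rfl

theorem post_res (β : G ⟶ G') {T T' : C} (φ : (HomSh.homSh J F G).obj.obj (op T)) (g : T' ⟶ T) :
    post β (res _ g φ) = res _ g (post β φ) := rfl

end Eval

section Torsor

variable {F M : Sheaf J AddCommGrpCat.{u + 1}} {T₀ : C} (hT : IsTerminal T₀)
  {E R : Sheaf J AddCommGrpCat.{u + 1}} (i : HomSh.homSh J F M ⟶ E) (p : E ⟶ R)
  (r₀ : R.obj.obj (op T₀))

/-- The local lifts of a section. -/
structure Lift (W : C) where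
  /-- The lift. -/
  sec : E.obj.obj (op W)
  /-- It lifts the section. -/
  eq : sMap p W sec = res R (hT.from W) r₀

variable {hT p r₀}

theorem Lift.ext' {W : C} {a b : Lift hT p r₀ W} (h : a.sec = b.sec) : a = b := by
  cases a; cases b; cases h; rfl

/-- Restriction of a lift. -/
def Lift.restrict {W V : C} (v : W ⟶ V) (l : Lift hT p r₀ V) : Lift hT p r₀ W where
  sec := res E v l.sec
  eq := by rw [sMap_res, l.eq, res_res, hT.hom_ext (v ≫ hT.from V) (hT.from W)]

theorem Lift.restrict_restrict {W V U : C} (v : W ⟶ V) (g : V ⟶ U) (l : Lift hT p r₀ U) :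
    (l.restrict g).restrict v = l.restrict (v ≫ g) :=
  Lift.ext' (res_res E v g l.sec)

theorem Lift.restrict_id {W : C} (l : Lift hT p r₀ W) : l.restrict (𝟙 W) = l :=
  Lift.ext' (res_id E l.sec)

variable (hi : ∀ W, Function.Injective (sMap i W))
  (hex : ∀ W (e : E.obj.obj (op W)), sMap p W e = 0 → ∃ d, sMap i W d = e)

/-- The difference of two lifts. -/
def diff {W : C} (a b : Lift hT p r₀ W) : (HomSh.homSh J F M).obj.obj (op W) :=
  (hex W (a.sec - b.sec) (by rw [map_sub, a.eq, b.eq, sub_self])).choose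

theorem diff_spec {W : C} (a b : Lift hT p r₀ W) :
    sMap i W (diff i hex a b) = a.sec - b.sec :=
  (hex W (a.sec - b.sec) (by rw [map_sub, a.eq, b.eq, sub_self])).choose_spec

include hi in
theorem diff_self {W : C} (a : Lift hT p r₀ W) : diff i hex a a = 0 :=
  hi W (by rw [diff_spec, sub_self, map_zero])

include hi in
theorem diff_trans {W : C} (a b c : Lift hT p r₀ W) :
    diff i hex a b + diff i hex b c = diff i hex a c :=
  hi W (by rw [map_add, diff_spec, diff_spec, diff_spec]; abel)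

include hi in
theorem diff_restrict {W V : C} (v : W ⟶ V) (a b : Lift hT p r₀ V) :
    diff i hex (a.restrict v) (b.restrict v) = res _ v (diff i hex a b) :=
  hi W (by rw [diff_spec, sMap_res, diff_spec, map_sub]; rfl)

variable (hT p r₀) in
/-- The indices of the presheaf covering `F`. -/
abbrev Idx (W : C) : Type (u + 1) := Σ V : C, Lift hT p r₀ V × (W ⟶ V)

variable (F hT p r₀) in
/-- The transition maps of the sum of the copies of `F`. -/
def coverMap {W W' : C} (v : W' ⟶ W) :
    (Idx hT p r₀ W →₀ F.obj.obj (op W)) →+ (Idx hT p r₀ W' →₀ F.obj.obj (op W')) :=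
  Finsupp.liftAddHom fun k =>
    (Finsupp.singleAddHom (⟨k.1, k.2.1, v ≫ k.2.2⟩ : Idx hT p r₀ W')).comp (res F v)

theorem coverMap_single {W W' : C} (v : W' ⟶ W) (k : Idx hT p r₀ W) (x : F.obj.obj (op W)) :
    coverMap F hT p r₀ v (Finsupp.single k x) =
      Finsupp.single (⟨k.1, k.2.1, v ≫ k.2.2⟩ : Idx hT p r₀ W') (res F v x) :=
  Finsupp.liftAddHom_apply_single _ _ _

theorem coverMap_id {W : C} (z : Idx hT p r₀ W →₀ F.obj.obj (op W)) :
    coverMap F hT p r₀ (𝟙 W) z = z := by
  have h : coverMap F hT p r₀ (𝟙 W) = AddMonoidHom.id _ := Finsupp.addHom_ext fun k x => by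
    rw [coverMap_single, res_id, Category.id_comp]; rfl
  exact DFunLike.congr_fun h z

theorem coverMap_coverMap {W W' W'' : C} (v : W' ⟶ W) (v' : W'' ⟶ W')
    (z : Idx hT p r₀ W →₀ F.obj.obj (op W)) :
    coverMap F hT p r₀ v' (coverMap F hT p r₀ v z) = coverMap F hT p r₀ (v' ≫ v) z := by
  have h : (coverMap F hT p r₀ v').comp (coverMap F hT p r₀ v) = coverMap F hT p r₀ (v' ≫ v) :=
    Finsupp.addHom_ext fun k x => by
      rw [AddMonoidHom.comp_apply, coverMap_single, coverMap_single, coverMap_single, res_res,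
        Category.assoc]
  exact DFunLike.congr_fun h z

variable (F hT p r₀) in
/-- The sum of the copies of `F` indexed by the lifts. -/
def cover : Cᵒᵖ ⥤ AddCommGrpCat.{u + 1} where
  obj W := AddCommGrpCat.of (Idx hT p r₀ W.unop →₀ F.obj.obj (op W.unop))
  map v := AddCommGrpCat.ofHom (coverMap F hT p r₀ v.unop)
  map_id W := AddCommGrpCat.hom_ext (AddMonoidHom.ext fun z => coverMap_id z)
  map_comp v v' := AddCommGrpCat.hom_ext (AddMonoidHom.ext fun z =>
    (coverMap_coverMap v.unop v'.unop z).symm)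

theorem cover_map_single {W W' : C} (v : W' ⟶ W) {V : C} (l : Lift hT p r₀ V) (g : W ⟶ V)
    (x : F.obj.obj (op W)) :
    ((cover F hT p r₀).map v.op).hom (Finsupp.single (⟨V, l, g⟩ : Idx hT p r₀ W) x) =
      Finsupp.single (⟨V, l, v ≫ g⟩ : Idx hT p r₀ W') (res F v x) :=
  coverMap_single _ _ _

variable (F hT p r₀) in
/-- The summation map. -/
def total (W : C) : (Idx hT p r₀ W →₀ F.obj.obj (op W)) →+ F.obj.obj (op W) :=
  Finsupp.liftAddHom fun _ => AddMonoidHom.id _

theorem total_single {W : C} (k : Idx hT p r₀ W) (x : F.obj.obj (op W)) :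
    total F hT p r₀ W (Finsupp.single k x) = x :=
  Finsupp.liftAddHom_apply_single _ _ _

theorem total_map {W W' : C} (v : W' ⟶ W) (z : Idx hT p r₀ W →₀ F.obj.obj (op W)) :
    total F hT p r₀ W' (((cover F hT p r₀).map v.op).hom z) = res F v (total F hT p r₀ W z) := by
  have h : (total F hT p r₀ W').comp ((cover F hT p r₀).map v.op).hom =
      (res F v).comp (total F hT p r₀ W) := Finsupp.addHom_ext fun k x => by
    show total F hT p r₀ W' (((cover F hT p r₀).map v.op).hom (Finsupp.single k x)) =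
      res F v (total F hT p r₀ W (Finsupp.single k x))
    obtain ⟨V, l, g⟩ := k
    rw [cover_map_single, total_single, total_single]
  exact DFunLike.congr_fun h z

variable (F hT p r₀) in
/-- The kernel of the summation map. -/
def rel : Cᵒᵖ ⥤ AddCommGrpCat.{u + 1} where
  obj W := AddCommGrpCat.of (total F hT p r₀ W.unop).ker
  map {W W'} v := AddCommGrpCat.ofHom
    (((coverMap F hT p r₀ v.unop).comp (total F hT p r₀ W.unop).ker.subtype).codRestrict _
      fun z => (total_map v.unop z.1).trans ((congrArg (res F v.unop) z.2).trans (map_zero _)))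
  map_id W := AddCommGrpCat.hom_ext (AddMonoidHom.ext fun z => Subtype.ext (coverMap_id z.1))
  map_comp v v' := AddCommGrpCat.hom_ext (AddMonoidHom.ext fun z => Subtype.ext
    (coverMap_coverMap v.unop v'.unop z.1).symm)

variable (F hT p r₀) in
/-- The inclusion of the kernel of the summation map. -/
def relIncl : rel F hT p r₀ ⟶ cover F hT p r₀ where
  app W := AddCommGrpCat.ofHom (total F hT p r₀ W.unop).ker.subtype
  naturality _ _ _ := AddCommGrpCat.ext fun _ => rfl

instance mono_relIncl : Mono (relIncl F hT p r₀) :=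
  @NatTrans.mono_of_mono_app _ _ _ _ _ _ _ fun W =>
    (AddCommGrpCat.mono_iff_injective ((relIncl F hT p r₀).app W)).2 fun _ _ h => Subtype.ext h

/-- The values of the differences with a given lift. -/
def lam {W : C} (b : Lift hT p r₀ W) :
    (Idx hT p r₀ W →₀ F.obj.obj (op W)) →+ M.obj.obj (op W) :=
  Finsupp.liftAddHom fun k => evAt (diff i hex (k.2.1.restrict k.2.2) b) (𝟙 W)

theorem lam_single {W V : C} (b : Lift hT p r₀ W) (l : Lift hT p r₀ V) (g : W ⟶ V)
    (x : F.obj.obj (op W)) :
    lam i hex b (Finsupp.single (⟨V, l, g⟩ : Idx hT p r₀ W) x) =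
      evAt (diff i hex (l.restrict g) b) (𝟙 W) x :=
  Finsupp.liftAddHom_apply_single _ _ _

include hi in
theorem lam_change {W : C} (b b' : Lift hT p r₀ W) (z : Idx hT p r₀ W →₀ F.obj.obj (op W))
    (hz : total F hT p r₀ W z = 0) : lam i hex b z = lam i hex b' z := by
  have h : lam i hex b =
      lam i hex b' + (evAt (diff i hex b' b) (𝟙 W)).comp (total F hT p r₀ W) :=
    Finsupp.addHom_ext fun k x => by
      obtain ⟨V, l, g⟩ := k
      show _ = lam i hex b' (Finsupp.single _ x) + evAt _ _ (total F hT p r₀ W (Finsupp.single _ x))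
      rw [lam_single, lam_single, total_single, ← evAt_add, diff_trans i hi hex]
  rw [h]
  show _ + evAt _ _ (total F hT p r₀ W z) = _
  rw [hz, map_zero, add_zero]

include hi in
theorem lam_map {W W' : C} (v : W' ⟶ W) (b : Lift hT p r₀ W)
    (z : Idx hT p r₀ W →₀ F.obj.obj (op W)) :
    lam i hex (b.restrict v) (((cover F hT p r₀).map v.op).hom z) =
      res M v (lam i hex b z) := by
  have h : (lam i hex (b.restrict v)).comp ((cover F hT p r₀).map v.op).hom =
      (res M v).comp (lam i hex b) := Finsupp.addHom_ext fun k x => by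
    obtain ⟨V, l, g⟩ := k
    show lam i hex _ (((cover F hT p r₀).map v.op).hom (Finsupp.single _ x)) =
      res M v (lam i hex b (Finsupp.single _ x))
    rw [cover_map_single, lam_single, lam_single, ← Lift.restrict_restrict, diff_restrict i hi hex,
      evAt_res, ← evAt_comp, evAt_congr _ ((Category.id_comp v).trans (Category.comp_id v).symm)]
  exact DFunLike.congr_fun h z

open Classical in
/-- The values on the kernel of the summation map. -/
def psiApp (W : C) : (total F hT p r₀ W).ker →+ M.obj.obj (op W) :=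
  if h : Nonempty (Lift hT p r₀ W) then (lam i hex h.some).comp (total F hT p r₀ W).ker.subtype
  else 0

include hi in
theorem psiApp_eq {W : C} (b : Lift hT p r₀ W) (z : (total F hT p r₀ W).ker) :
    psiApp i hex W z = lam i hex b z.1 := by
  have h : Nonempty (Lift hT p r₀ W) := ⟨b⟩
  rw [psiApp, dif_pos h]
  exact lam_change i hi hex _ _ _ z.2

include hi in
/-- The morphism on the kernel of the summation map. -/
def psi : rel F hT p r₀ ⟶ M.obj where
  app W := AddCommGrpCat.ofHom (psiApp i hex W.unop)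
  naturality {W W'} v := AddCommGrpCat.ext fun z => by
    show psiApp i hex W'.unop ⟨((cover F hT p r₀).map v).hom z.1, _⟩ =
      res M v.unop (psiApp i hex W.unop z)
    by_cases h : Nonempty (Lift hT p r₀ W.unop)
    · obtain ⟨b⟩ := h
      exact (psiApp_eq i hi hex (b.restrict v.unop) _).trans
        ((lam_map i hi hex v.unop b z.1).trans (congrArg _ (psiApp_eq i hi hex b z).symm))
    · haveI : IsEmpty (Idx hT p r₀ W.unop) := ⟨fun k => h ⟨k.2.1.restrict k.2.2⟩⟩
      have hz : z = 0 := Subtype.ext (Subsingleton.elim _ _)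
      subst hz
      refine Eq.trans ?_ ((congrArg (res M v.unop) (map_zero _)).trans (map_zero _)).symm
      refine Eq.trans (congrArg _ (Subtype.ext ?_)) (map_zero (psiApp i hex W'.unop))
      exact map_zero _

variable {I Q : Sheaf J AddCommGrpCat.{u + 1}} (ι' : M ⟶ I) (q : I ⟶ Q)

/-- The local homomorphism attached to a lift. -/
def chi (Φ : cover F hT p r₀ ⟶ I.obj) {V : C} (l : Lift hT p r₀ V) :
    (HomSh.homSh J F I).obj.obj (op V) :=
  ofNatural (fun W g => (Φ.app (op W)).hom.comp (Finsupp.singleAddHom (⟨V, l, g⟩ : Idx hT p r₀ W)))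
    fun {W W'} g v x => by
      show (Φ.app (op W')).hom (Finsupp.single (⟨V, l, v ≫ g⟩ : Idx hT p r₀ W') (res F v x)) = _
      rw [← cover_map_single]
      exact ConcreteCategory.congr_hom (Φ.naturality v.op) _

include hT hi hex in
/-- Torsors under the internal Hom are trivial when morphisms to `Q` lift. -/
theorem exists_global_lift (hip : ∀ W d, sMap p W (sMap i W d) = 0)
    (hloc : Presheaf.imageSieve p.hom r₀ ∈ J T₀) [Injective I.obj]
    (hι : ∀ W, Function.Injective (sMap ι' W)) (hιq : ι' ≫ q = 0)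
    (hM : ∀ W (y : I.obj.obj (op W)), sMap q W y = 0 → ∃ m, sMap ι' W m = y)
    (hlift : ∀ y : F ⟶ Q, ∃ τ : F ⟶ I, τ ≫ q = y) :
    ∃ t, sMap p T₀ t = r₀ := by
  haveI : Mono ι'.hom := @NatTrans.mono_of_mono_app _ _ _ _ _ _ _ fun W =>
    (AddCommGrpCat.mono_iff_injective (ι'.hom.app W)).2 (hι W.unop)
  let Φ : cover F hT p r₀ ⟶ I.obj := Injective.factorThru (psi i hi hex ≫ ι'.hom) (relIncl F hT p r₀)
  have hΦ : relIncl F hT p r₀ ≫ Φ = psi i hi hex ≫ ι'.hom := Injective.comp_factorThru _ _
  have hqι : ∀ W (m : M.obj.obj (op W)), sMap q W (sMap ι' W m) = 0 := fun W m =>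
    ConcreteCategory.congr_hom (congrArg (fun φ : M ⟶ Q => φ.hom.app (op W)) hιq) m
  -- the differences of the local homomorphisms
  have key : ∀ {W V V' : C} (g : W ⟶ V) (g' : W ⟶ V') (l : Lift hT p r₀ V) (l' : Lift hT p r₀ V'),
      res _ g (chi Φ l) - res _ g' (chi Φ l') =
        post ι' (diff i hex (l.restrict g) (l'.restrict g')) := by
    intro W V V' g g' l l'
    refine evAt_ext fun W' v x => ?_
    rw [evAt_sub, evAt_res, evAt_res, evAt_post]
    have hz : total F hT p r₀ W' (Finsupp.single (⟨V, l, v ≫ g⟩ : Idx hT p r₀ W') x -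
        Finsupp.single (⟨V', l', v ≫ g'⟩ : Idx hT p r₀ W') x) = 0 := by
      rw [map_sub, total_single, total_single, sub_self]
    have h1 := ConcreteCategory.congr_hom (congrArg (fun φ => φ.app (op W')) hΦ) ⟨_, hz⟩
    change (Φ.app (op W')).hom (Finsupp.single (⟨V, l, v ≫ g⟩ : Idx hT p r₀ W') x) -
      (Φ.app (op W')).hom (Finsupp.single (⟨V', l', v ≫ g'⟩ : Idx hT p r₀ W') x) = _
    rw [← map_sub]
    refine h1.trans (congrArg (sMap ι' W') ?_)
    refine (psiApp_eq i hi hex (l'.restrict (v ≫ g')) ⟨_, hz⟩).trans ?_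
    rw [map_sub, lam_single, lam_single, diff_self i hi hex, evAt_zero, sub_zero,
      ← Lift.restrict_restrict, ← Lift.restrict_restrict, diff_restrict i hi hex, evAt_res,
      evAt_congr _ (Category.id_comp v)]
  have keyQ : ∀ {W V V' : C} (g : W ⟶ V) (g' : W ⟶ V') (l : Lift hT p r₀ V)
      (l' : Lift hT p r₀ V'),
      res _ g (post q (chi Φ l)) = res _ g' (post q (chi Φ l')) := by
    intro W V V' g g' l l'
    refine evAt_ext fun W' v x => ?_
    have h := congrArg (fun φ => sMap q W' (evAt φ v x)) (key g g' l l')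
    simp only [evAt_sub, evAt_post, map_sub, hqι, sub_eq_zero] at h
    exact h
  -- the global morphism to the quotient
  let S := Presheaf.imageSieve p.hom r₀
  let mkL : ∀ {V : C} (g : V ⟶ T₀), S g → Lift hT p r₀ V := fun {V} g hg =>
    ⟨hg.choose, hg.choose_spec.trans (congrArg (fun a => res R a r₀) (hT.hom_ext g (hT.from V)))⟩
  have hsheaf : ∀ (G : Sheaf J AddCommGrpCat.{u + 1}),
      Presieve.IsSheafFor (G.obj ⋙ CategoryTheory.forget AddCommGrpCat.{u + 1}) S.arrows := fun G =>
    (isSheaf_iff_isSheaf_of_type _ _).1 ((Presheaf.isSheaf_iff_isSheaf_forget J _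
      (CategoryTheory.forget AddCommGrpCat.{u + 1})).1 G.property) S hloc
  let fam : Presieve.FamilyOfElements
      ((HomSh.homSh J F Q).obj ⋙ CategoryTheory.forget AddCommGrpCat.{u + 1}) S.arrows :=
    fun V g hg => post q (chi Φ (mkL g hg))
  have hfam : fam.Compatible := fun V V' W g g' f f' hf hf' _ =>
    keyQ g g' (mkL f hf) (mkL f' hf')
  obtain ⟨y, hy, -⟩ := hsheaf _ fam hfam
  have hy' : ∀ {V : C} (l : Lift hT p r₀ V),
      res _ (hT.from V) y = post q (chi Φ l) := by
    intro V l
    have hS : S (hT.from V) := ⟨l.sec, l.eq⟩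
    have h := (keyQ (𝟙 V) (𝟙 V) (mkL _ hS) l)
    rw [res_id, res_id] at h
    exact (hy _ hS).trans h
  let y' : F ⟶ Q := ⟨{
    app := fun W => AddCommGrpCat.ofHom (evAt y (hT.from W.unop))
    naturality := fun W W' v => AddCommGrpCat.ext fun x => (evAt_congr y
      (hT.hom_ext _ (v.unop ≫ hT.from W.unop)) _).trans (evAt_comp y _ v.unop x) }⟩
  obtain ⟨τ, hτ⟩ := hlift y'
  -- correcting the local homomorphisms
  have hcorr : ∀ {V : C} (l : Lift hT p r₀ V), ∃ δ : (HomSh.homSh J F M).obj.obj (op V),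
      ∀ (W : C) (f : W ⟶ V) (x : F.obj.obj (op W)),
        sMap ι' W (evAt δ f x) = evAt (chi Φ l) f x - sMap τ W x := by
    intro V l
    have h0 : ∀ (W : C) (f : W ⟶ V) (x : F.obj.obj (op W)),
        ∃ m, sMap ι' W m = evAt (chi Φ l) f x - sMap τ W x := by
      intro W f x
      refine hM W _ ?_
      have e1 : sMap q W (evAt (chi Φ l) f x) = evAt y (hT.from W) x := by
        rw [← evAt_post, ← hy' l, evAt_res]
        exact evAt_congr y (hT.hom_ext _ _) x
      have e2 : sMap q W (sMap τ W x) = evAt y (hT.from W) x :=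
        ConcreteCategory.congr_hom (congrArg (fun φ : F ⟶ Q => φ.hom.app (op W)) hτ) x
      rw [map_sub, e1, e2, sub_self]
    choose m hm using h0
    refine ⟨ofNatural (fun W f => AddMonoidHom.mk' (m W f) fun a b => hι W (by
      rw [map_add, hm, hm, hm, map_add, map_add]; abel)) (fun {W W'} f v x => hι W' (by
      show sMap ι' W' (m W' _ _) = sMap ι' W' (res M v (m W f x))
      rw [sMap_res, hm, hm, map_sub, evAt_comp, sMap_res])), fun W f x => hm W f x⟩
  choose δ hδ using @hcorr
  have hδdiff : ∀ {W V V' : C} (g : W ⟶ V) (g' : W ⟶ V') (l : Lift hT p r₀ V)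
      (l' : Lift hT p r₀ V'),
      res _ g (δ l) - res _ g' (δ l') = diff i hex (l.restrict g) (l'.restrict g') := by
    intro W V V' g g' l l'
    refine evAt_ext fun W' v x => hι W' ?_
    have h := congrArg (fun φ => evAt φ v x) (key g g' l l')
    simp only [evAt_sub, evAt_res, evAt_post] at h
    rw [evAt_sub, evAt_res, evAt_res, map_sub, hδ, hδ, ← h]
    abel
  -- the corrected lifts agree
  let famE : Presieve.FamilyOfElements (E.obj ⋙ CategoryTheory.forget AddCommGrpCat.{u + 1})
      S.arrows := fun V g hg => (mkL g hg).sec - sMap i V (δ (mkL g hg))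
  have hfamE : famE.Compatible := fun V V' W g g' f f' hf hf' _ => by
    show res E g ((mkL f hf).sec - sMap i V (δ (mkL f hf))) =
      res E g' ((mkL f' hf').sec - sMap i V' (δ (mkL f' hf')))
    rw [map_sub, map_sub, sub_eq_sub_iff_sub_eq_sub, ← sMap_res, ← sMap_res, ← map_sub,
      hδdiff, diff_spec]
    rfl
  obtain ⟨t, ht, -⟩ := hsheaf _ famE hfamE
  refine ⟨t, (hsheaf R).isSeparatedFor.ext
    (P := R.obj ⋙ CategoryTheory.forget AddCommGrpCat.{u + 1}) fun V g hg => ?_⟩
  show res R g (sMap p T₀ t) = res R g r₀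
  rw [← sMap_res, show res E g t = _ from ht g hg]
  show sMap p V ((mkL g hg).sec - sMap i V _) = _
  rw [map_sub, (mkL g hg).eq, hip, sub_zero, hT.hom_ext g (hT.from V)]

end Torsor

end Groth.Agent.HomShH1

end
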