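import Groth.Agent.S15602
import Groth.Agent.PicClLib.Basic
import Groth.Agent.InvUfdLib.Trivial
import Mathlib.RingTheory.Polynomial.UniqueFactorization

/-! Invertible modules on the affine line over a field are trivial. -/

set_option autoImplicit false

universe u

open CategoryTheory CategoryTheory.Limits AlgebraicGeometry

noncomputable section

namespace Groth.Agent.HomShH1

theorem nonempty_iso_of_isIso {X Y : Scheme.{u}} (e : X ≅ Y)
    (hY : ∀ L : Y.Modules, PicF.IsInvertible L → Nonempty (L ≅ Coh.structureModule Y))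
    (L : X.Modules) (hL : PicF.IsInvertible L) : Nonempty (L ≅ Coh.structureModule X) := by
  obtain ⟨a⟩ := hY _ (PicClLib.isInvertible_pullback e.inv hL)
  obtain ⟨b⟩ := PicClLib.nonempty_pullback_structureModule e.hom
  exact ⟨((Scheme.Modules.pullbackId X).app L).symm ≪≫
    (Scheme.Modules.pullbackCongr e.hom_inv_id.symm).app L ≪≫
    ((Scheme.Modules.pullbackComp e.hom e.inv).app L).symm ≪≫
    (Scheme.Modules.pullback e.hom).mapIso a ≪≫ b⟩

theorem line_pic_trivial (k : Type u) [Field k]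
    (L : (Red.Ga (Spec (CommRingCat.of k))).left.Modules) (hL : PicF.IsInvertible L) :
    Nonempty (L ≅ Coh.structureModule (Red.Ga (Spec (CommRingCat.of k))).left) := by
  let R := ULift.{u} ℤ
  let : Algebra R k := ((algebraMap ℤ k).comp (ULift.ringEquiv.toRingHom)).toAlgebra
  obtain ⟨e1⟩ := GrpSchLib.AffineHopf.nonempty_bc_iso (Limits.IsTerminal.from specULiftZIsTerminal (Spec (CommRingCat.of k)))
    (Spec.map (CommRingCat.ofHom (algebraMap R k))) (specULiftZIsTerminal.hom_ext _ _) Red.GaZ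
  obtain ⟨e2⟩ := GrpSchLib.AffineHopf.nonempty_bc_sp (R := R) k (SymmetricAlgebra R R)
  let j : Red.Ga (Spec (CommRingCat.of k)) ≅ _ := (Grp.forget _).mapIso (e1.trans e2)
  obtain ⟨hA, ⟨ψ⟩⟩ := S15602.aux R k
  haveI : IsAffine (Red.Ga (Spec (CommRingCat.of k))).left :=
    @IsAffine.of_isIso _ _ ((Over.forget _).mapIso j).hom (Iso.isIso_hom _) hA
  let φ : Polynomial k ≃ₐ[k] GrpSchLib.Kunneth.Fn (Red.Ga (Spec (CommRingCat.of k))) :=
    ψ.trans (GrpSchLib.LineGroups.fnEquiv j)
  let P : CommRingCat.{u} := CommRingCat.of (Polynomial k)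
  let e : (Red.Ga (Spec (CommRingCat.of k))).left ≅ ((⊤ : (Spec P).Opens) : Scheme.{u}) :=
    (Red.Ga (Spec (CommRingCat.of k))).left.isoSpec ≪≫
      Scheme.Spec.mapIso φ.toRingEquiv.toCommRingCatIso.op ≪≫ (Spec P).topIso.symm
  exact nonempty_iso_of_isIso e
    (fun M hM => Groth.Agent.InvUfdLib.nonempty_iso (R := P) ⊤ M hM) L hL

end Groth.Agent.HomShH1

end
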