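import Groth.Agent.HomShH1.Core
import Groth.Agent.Adeq2Lib.AffineVanish

/-! The first fppf cohomology of an internal Hom vanishes when the first Ext group does. -/

set_option autoImplicit false

universe u

open CategoryTheory CategoryTheory.Limits AlgebraicGeometry Opposite Abelian

noncomputable section

namespace Groth.Agent.HomShH1

open Groth.Agent.Adeq2Lib Groth.Agent.Adeq2Lib.AffVan

theorem subsingleton_H_homSh {X : Scheme.{u}} (F M : AbT X) (h : Subsingleton (Ext F M 1)) :
    Subsingleton (BigSite.H Scheme.fppfPrecoverage X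
      (HomSh.homSh (QuotSh.J Scheme.fppfPrecoverage X) F M) 1) := by
  let T₀ : Over X := Over.mk (𝟙 X)
  have hT : IsTerminal T₀ := Over.mkIdTerminal
  let PD := Classical.arbitrary
    (InjectivePresentation (HomSh.homSh (QuotSh.J Scheme.fppfPrecoverage X) F M))
  have hD := PD.shortExact_shortComplex
  let PM := Classical.arbitrary (InjectivePresentation M)
  have hM := PM.shortExact_shortComplex
  refine subsingleton_of_forall_eq 0 fun x => ?_
  obtain ⟨r, rfl⟩ := Ext.covariant_sequence_exact₁ _ hD x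
    ((Ext.eq_zero_of_injective (I := PD.J) _)) (n₀ := 0) rfl
  suffices hs : ∃ t, (PD.shortComplex.g.hom.app (op T₀)).hom t =
      Sheaf.H.equiv₀ PD.shortComplex.X₃ hT r by
    obtain ⟨t, ht⟩ := hs
    have hr : r = Sheaf.H.map PD.shortComplex.g 0 ((Sheaf.H.equiv₀ PD.shortComplex.X₂ hT).symm t) := by
      refine (Sheaf.H.equiv₀ PD.shortComplex.X₃ hT).injective ?_
      rw [← Sheaf.H.equiv₀_naturality, AddEquiv.apply_symm_apply]
      exact ht.symm
    rw [hr, Sheaf.H.map_apply, Ext.comp_assoc_of_second_deg_zero, hD.comp_extClass, Ext.comp_zero]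
  haveI : Injective PM.J.obj :=
    Injective.injective_of_adjoint
      (sheafificationAdjunction (QuotSh.J Scheme.fppfPrecoverage X) AddCommGrpCat.{u + 1}) PM.J
  haveI : Epi PD.shortComplex.g := hD.epi_g
  refine exists_global_lift (hT := hT) PD.shortComplex.f (fun W => (secA_exact _ hD W).1)
    (fun W e he => ((secA_exact _ hD W).2 e).1 he) PM.shortComplex.f PM.shortComplex.g
    (fun W d => ((secA_exact _ hD W).2 _).2 ⟨d, rfl⟩)
    (((Sheaf.isLocallySurjective_iff_epi' AddCommGrpCat.{u + 1} PD.shortComplex.g).2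
      inferInstance).imageSieve_mem _)
    (fun W => (secA_exact _ hM W).1) PM.shortComplex.zero
    (fun W y hy => ((secA_exact _ hM W).2 y).1 hy) fun y => ?_
  obtain ⟨z, hz⟩ := Ext.covariant_sequence_exact₃ F hM (Ext.mk₀ y) (n₁ := 1) rfl
    (Subsingleton.elim (α := Ext F M 1) _ 0)
  obtain ⟨τ, rfl⟩ := (Ext.mk₀_bijective _ _).2 z
  exact ⟨τ, (Ext.mk₀_bijective _ _).1 ((Ext.mk₀_comp_mk₀ _ _).symm.trans hz)⟩

end Groth.Agent.HomShH1

end
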